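import Cfsg.Agent.Lib.RootBlocks41.Connected
import Cfsg.Agent.S5046

/-!
# The members of `D` isolated among the members commuting with a given one

For `b ∈ D` let `W b` be the set of members of `C_D(b)` without odd partner in `C_D(b)`, and `Rad b`
the set of those members of `W b` whose commutators with `W b` lie in `E(b)`.
-/

set_option autoImplicit false
set_option linter.unusedSectionVars false

namespace Cfsg.Agent.Lib.RootStructure22

open Cfsg.Agent.Lib.Elem70

universe u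

variable {G : Type u} [Group G] {D : Set G}

/-- The isolated members among the members commuting with `b`. -/
def W (D : Set G) (b : G) : Set G :=
  {w | Cfsg.IsIsolatedElem (Cfsg.OddAdj (Cfsg.commutingMembers D b)) (Cfsg.commutingMembers D b) w}

/-- The members of `W b` having all commutators with `W b` in `E(b)`. -/
def Rad (D : Set G) (b : G) : Set G :=
  {c | c ∈ W D b ∧ ∀ z ∈ W D b, (c * z) ^ 2 ∈ Cfsg.sameCommutingSubgroup D b}

/-- The hypotheses of the root structure theorem that are used. -/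
structure Hyp (D : Set G) : Prop where
  nd : RootBlocks41.NDClass D
  hE : ∀ d ∈ D, (Cfsg.sameCommutingSubgroup D d : Set G) = Cfsg.sameCommutingClass D d ∪ {1}

theorem mem_W {b w : G} :
    w ∈ W D b ↔ w ∈ Cfsg.commutingMembers D b ∧
      ∀ y ∈ Cfsg.commutingMembers D b, ¬ Cfsg.OddAdj D w y ∧ ¬ Cfsg.OddAdj D y w := by
  constructor
  · rintro ⟨hw, h⟩
    exact ⟨hw, fun y hy => ⟨fun ⟨_, _, hne, ho⟩ => (h y).1 ⟨hw, hy, hne, ho⟩,
      fun ⟨_, _, hne, ho⟩ => (h y).2 ⟨hy, hw, hne, ho⟩⟩⟩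
  · rintro ⟨hw, h⟩
    exact ⟨hw, fun y => ⟨fun ⟨_, hy, hne, ho⟩ => (h y hy).1 ⟨hw.1, hy.1, hne, ho⟩,
      fun ⟨hy, _, hne, ho⟩ => (h y hy).2 ⟨hy.1, hw.1, hne, ho⟩⟩⟩

theorem W_mem {b w : G} (hw : w ∈ W D b) : w ∈ D := (mem_W.mp hw).1.1

theorem W_comm {b w : G} (hw : w ∈ W D b) : Commute w b := (mem_W.mp hw).1.2

theorem W_nadj {b w y : G} (hw : w ∈ W D b) (hy : y ∈ Cfsg.commutingMembers D b) :
    ¬ Cfsg.OddAdj D w y := ((mem_W.mp hw).2 y hy).1

theorem W_congr {b e : G} (h : Cfsg.commutingMembers D b = Cfsg.commutingMembers D e) :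
    W D e = W D b := by simp only [W, h]

theorem class_congr {b e : G} (h : e ∈ Cfsg.sameCommutingClass D b) :
    Cfsg.sameCommutingClass D e = Cfsg.sameCommutingClass D b := by
  ext y
  simp only [Cfsg.sameCommutingClass, Set.mem_setOf_eq]
  rw [h.2]

theorem sub_congr {b e : G} (h : e ∈ Cfsg.sameCommutingClass D b) :
    Cfsg.sameCommutingSubgroup D e = Cfsg.sameCommutingSubgroup D b := by
  simp only [Cfsg.sameCommutingSubgroup, class_congr h]

theorem Rad_congr {b e : G} (h : e ∈ Cfsg.sameCommutingClass D b) : Rad D e = Rad D b := by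
  simp only [Rad, W_congr h.2, sub_congr h]

theorem class_comm {b e s : G} (he : e ∈ Cfsg.sameCommutingClass D b)
    (hs : s ∈ Cfsg.commutingMembers D b) : Commute s e := by
  rw [he.2] at hs
  exact hs.2

theorem class_self {b : G} (hb : b ∈ D) : b ∈ Cfsg.sameCommutingClass D b := ⟨hb, rfl⟩

variable (H : Hyp D)
include H

theorem class_subset_W {b e : G} (he : e ∈ Cfsg.sameCommutingClass D b) : e ∈ W D b := by
  have hes : e ∈ Cfsg.commutingMembers D b := by rw [he.2]; exact ⟨he.1, rfl⟩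
  exact mem_W.mpr ⟨hes, fun y hy => ⟨RootInv12.not_adj_of_commute H.nd.hD (class_comm he hy).symm,
    RootInv12.not_adj_of_commute H.nd.hD (class_comm he hy)⟩⟩

theorem mem_sub_iff {b x : G} (hb : b ∈ D) :
    x ∈ Cfsg.sameCommutingSubgroup D b ↔ x ∈ Cfsg.sameCommutingClass D b ∨ x = 1 := by
  rw [← SetLike.mem_coe, H.hE b hb]
  simp [or_comm]

theorem mem_class_of_sub {b x : G} (hb : b ∈ D) (hx : x ∈ Cfsg.sameCommutingSubgroup D b)
    (hxD : x ∈ D) : x ∈ Cfsg.sameCommutingClass D b := by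
  rcases (mem_sub_iff H hb).mp hx with h | h
  · exact h
  · exact absurd h (RootInvolutions.ne_one H.nd.hD hxD)

theorem class_mul {b u v : G} (hb : b ∈ D) (hu : u ∈ Cfsg.sameCommutingClass D b)
    (hv : v ∈ Cfsg.sameCommutingClass D b) (hne : u ≠ v) :
    u * v ∈ Cfsg.sameCommutingClass D b := by
  have hm : u * v ∈ Cfsg.sameCommutingSubgroup D b :=
    mul_mem (Subgroup.subset_closure hu) (Subgroup.subset_closure hv)
  rcases (mem_sub_iff H hb).mp hm with h | h
  · exact h
  · exfalso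
    apply hne
    rw [eq_inv_of_mul_eq_one_left h, RootInvolutions.inv_self H.nd.hD hv.1]

/-- The square of the product of two members is inverse to that in the other order. -/
theorem sq_swap {u v : G} (hu : u ∈ D) (hv : v ∈ D) : (v * u) ^ 2 = ((u * v) ^ 2)⁻¹ := by
  rw [← inv_pow, mul_inv_rev, RootInvolutions.inv_self H.nd.hD hu,
    RootInvolutions.inv_self H.nd.hD hv]

theorem conj_commutingMembers (g b : G) :
    Cfsg.commutingMembers D (g * b * g⁻¹) = (fun y => g * y * g⁻¹) '' Cfsg.commutingMembers D b := by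
  ext y
  constructor
  · rintro ⟨hy, hc⟩
    refine ⟨g⁻¹ * y * g, ⟨by simpa using H.nd.hD.conj_mem y hy g⁻¹, ?_⟩, by group⟩
    have := (RootInv12.commute_conj (show Commute y (g * b * g⁻¹) from hc) g⁻¹).eq
    simpa [mul_assoc] using this
  · rintro ⟨y, ⟨hy, hc⟩, rfl⟩
    exact ⟨H.nd.hD.conj_mem y hy g, (RootInv12.commute_conj (show Commute y b from hc) g).eq⟩

theorem conj_class {b e : G} (he : e ∈ Cfsg.sameCommutingClass D b) (g : G) :
    g * e * g⁻¹ ∈ Cfsg.sameCommutingClass D (g * b * g⁻¹) :=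
  ⟨H.nd.hD.conj_mem e he.1 g, by rw [conj_commutingMembers H, conj_commutingMembers H, he.2]⟩

theorem conj_W {b w : G} (hw : w ∈ W D b) (g : G) : g * w * g⁻¹ ∈ W D (g * b * g⁻¹) := by
  obtain ⟨hw1, hw2⟩ := mem_W.mp hw
  refine mem_W.mpr ⟨?_, fun y hy => ?_⟩
  · rw [conj_commutingMembers H]; exact ⟨w, hw1, rfl⟩
  · rw [conj_commutingMembers H] at hy
    obtain ⟨y, hy, rfl⟩ := hy
    simp only [RootInv12.adj_conj_iff H.nd.hD]
    exact hw2 y hy

theorem conj_Rad {b c : G} (hb : b ∈ D) (hc : c ∈ Rad D b) (g : G) :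
    g * c * g⁻¹ ∈ Rad D (g * b * g⁻¹) := by
  refine ⟨conj_W H hc.1 g, fun z hz => ?_⟩
  have hz' := conj_W H hz g⁻¹
  have e : g⁻¹ * (g * b * g⁻¹) * g⁻¹⁻¹ = b := by group
  rw [e] at hz'
  have h2 := hc.2 _ hz'
  have e2 : (g * c * g⁻¹ * z) ^ 2 = g * (c * (g⁻¹ * z * g⁻¹⁻¹)) ^ 2 * g⁻¹ := by
    rw [← conj_pow]; congr 1; group
  rw [e2, mem_sub_iff H (H.nd.hD.conj_mem b hb g)]
  rcases (mem_sub_iff H hb).mp h2 with h | h
  · exact Or.inl (conj_class H h g)
  · right; rw [h]; group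

theorem mem_of_sq {b w z : G} (hw : w ∈ W D b) (hz : z ∈ Cfsg.commutingMembers D b)
    (hne : (w * z) ^ 2 ≠ 1) :
    (w * z) ^ 2 ∈ W D b ∧ orderOf (w * z) = 4 ∧ (w * z) ^ 2 ∈ D := by
  have hD := H.nd.hD
  have hwD := W_mem hw
  have hn : ¬ Commute w z := fun hc => hne (by
    rw [hc.mul_pow, sq, sq, RootInvolutions.mul_self hD hwD, RootInvolutions.mul_self hD hz.1,
      one_mul])
  obtain ⟨h4, hm⟩ := RootInv12.four_of_not_adj hD hwD hz.1 (W_nadj hw hz) hn
  refine ⟨?_, h4, hm⟩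
  obtain ⟨hws, hws2⟩ := mem_W.mp hw
  have hcom : Commute ((w * z) ^ 2) b :=
    ((W_comm hw).mul_left (show Commute z b from hz.2)).pow_left 2
  refine mem_W.mpr ⟨⟨hm, hcom.eq⟩, fun y hy => ?_⟩
  -- the square is `w` times a conjugate of `w`; both are isolated
  have hsym : ∀ y' ∈ Cfsg.commutingMembers D b, ¬ Cfsg.OddAdj D ((w * z) ^ 2) y' := by
    intro y' hy' hadj
    obtain ⟨-, -, hl, -⟩ := RootBlocks41.sq_facts hD hwD hz.1 h4 hm
    have hline := RootBlocks41.line_symm hD hwD hl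
    rcases RootInvolutions.line_lemma hD hm hline (RootInvolutions.adj_symm hD hadj) with h | h
    · exact (hws2 y' hy').2 h
    · have hc2 : w * (w * z) ^ 2 = z * w * z⁻¹ := by
        rw [RootInvolutions.inv_self hD hz.1, RootInv.four_conj hD hwD hz.1]
      rw [hc2] at h
      have := RootInv12.adj_conj hD h z⁻¹
      rw [RootInv12.conj_conj, inv_mul_cancel, one_mul, inv_one, mul_one] at this
      refine (hws2 _ ?_).2 this
      exact ⟨H.nd.hD.conj_mem y' hy'.1 _, (((show Commute z b from hz.2).inv_left).mul_left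
        (show Commute y' b from hy'.2)).mul_left (show Commute z b from hz.2).inv_left.inv_left⟩
  exact ⟨hsym y hy, fun h => hsym y hy (RootInvolutions.adj_symm hD h)⟩

theorem X_subset_W {b y : G} (hb : b ∈ D) (hy : y ∈ Cfsg.productPartners D b) : y ∈ W D b := by
  have hD := H.nd.hD
  refine mem_W.mpr ⟨⟨hy.1.1, hy.1.2.1⟩, fun z hz => ?_⟩
  have key : ¬ Cfsg.OddAdj D y z := fun h =>
    RootInv.not_comm_line hD hy.1.1 (RootBlocks41.line_symm hD hb hy)
      (RootBlocks41.mem_oddPartners hD h) hz.2.symm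
  exact ⟨key, fun h => key (RootInvolutions.adj_symm hD h)⟩

theorem self_mem_W {b : G} (hb : b ∈ D) : b ∈ W D b := class_subset_W H (class_self hb)

theorem mem_Rad_of_class {b e : G} (he : e ∈ Cfsg.sameCommutingClass D b) : e ∈ Rad D b := by
  refine ⟨class_subset_W H he, fun z hz => ?_⟩
  have hc : Commute e z := (class_comm he (mem_W.mp hz).1).symm
  rw [hc.mul_pow, sq, sq, RootInvolutions.mul_self H.nd.hD he.1,
    RootInvolutions.mul_self H.nd.hD (W_mem hz), one_mul]
  exact one_mem _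

end Cfsg.Agent.Lib.RootStructure22
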