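import Cfsg.Agent.Lib.RootStructure22.Basic

/-!
# Members of `W b` outside the class of `b`
-/

set_option autoImplicit false
set_option linter.unusedSectionVars false

namespace Cfsg.Agent.Lib.RootStructure22

open Cfsg.Agent.Lib.Elem70

universe u

variable {G : Type u} [Group G] [Finite G] {D : Set G} (H : Hyp D)
include H

theorem odd_congr {b e : G} (hb : b ∈ D) (he : e ∈ Cfsg.sameCommutingClass D b) :
    Cfsg.oddPartners D e = Cfsg.oddPartners D b := by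
  have hD := H.nd.hD
  have h1 := Cfsg.Agent.S5046.result hD H.nd.conn hb
  have h2 : e ∈ Cfsg.sameCommutingClass D b := he
  rw [h1] at h2
  ext x
  have hx := Set.ext_iff.mp h2.2 x
  have hiff : ∀ u ∈ D, (x ∈ Cfsg.commutingMembers D u ∪ Cfsg.fourPartners D u →
      x ∉ Cfsg.oddPartners D u) := by
    rintro u hu (⟨hxD, hc⟩ | ⟨hxD, h4⟩) ho
    · exact RootInv.not_comm_of_odd hD hu ho hc.symm
    · exact RootInv.not_odd_of_four hD h4 ho
  have hor : ∀ u ∈ D, x ∈ D → x ∉ Cfsg.oddPartners D u →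
      x ∈ Cfsg.commutingMembers D u ∪ Cfsg.fourPartners D u := by
    intro u hu hxD hn
    rcases RootInv.cases_odd hD hu hxD with h | h | h
    · exact Or.inl ⟨hxD, h.symm⟩
    · exact absurd h hn
    · exact Or.inr ⟨hxD, h.1⟩
  exact ⟨fun h => by_contra fun hn => hiff e he.1 (hx.mp (hor b hb h.1 hn)) h,
    fun h => by_contra fun hn => hiff b hb (hx.mpr (hor e he.1 h.1 hn)) h⟩

theorem not_adj_class {b e x : G} (hb : b ∈ D) (he : e ∈ Cfsg.sameCommutingClass D b)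
    (h : ¬ Cfsg.OddAdj D x b) : ¬ Cfsg.OddAdj D x e := fun hadj => by
  have hm := RootBlocks41.mem_oddPartners H.nd.hD (RootInvolutions.adj_symm H.nd.hD hadj)
  rw [odd_congr H hb he] at hm
  exact h (RootInvolutions.adj_symm H.nd.hD (RootBlocks41.adj_of_mem H.nd.hD hb hm))

/-- Outside the class of `b`, a member of `W b` has an odd partner with product of order four with `b`. -/
theorem exists_adj {b w : G} (hb : b ∈ D) (hw : w ∈ W D b)
    (hne : w ∉ Cfsg.sameCommutingClass D b) :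
    ∃ x, Cfsg.OddAdj D x w ∧ ¬ Cfsg.OddAdj D x b ∧ ¬ Commute x b := by
  have hD := H.nd.hD
  have hwD := W_mem hw
  have hn : RootInv12.nbrs D w ≠ RootInv12.nbrs D b := fun he => hne ⟨hwD, Set.ext fun z =>
    ⟨fun ⟨hz, hc⟩ => ⟨hz, (RootInv12.commute_of_nbrs_eq hD H.nd.cl hwD hb he hz hc).eq⟩,
      fun ⟨hz, hc⟩ => ⟨hz, (RootInv12.commute_of_nbrs_eq hD H.nd.cl hb hwD he.symm hz hc).eq⟩⟩⟩
  obtain ⟨x, hxw, hxb⟩ := RootInv12.exists_adj_not_adj hD H.nd.cl hwD hb hn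
  exact ⟨x, hxw, hxb, fun hc => W_nadj hw (y := x) ⟨hxw.1, hc.eq⟩ (RootInvolutions.adj_symm hD hxw)⟩

/-- The member of `X_b` attached to an odd partner. -/
theorem side {b w x : G} (hb : b ∈ D) (hxw : Cfsg.OddAdj D x w) (hxb : ¬ Cfsg.OddAdj D x b)
    (hnc : ¬ Commute x b) :
    (x * b) ^ 2 ∈ Cfsg.productPartners D b ∧ ¬ Commute ((x * b) ^ 2) w := by
  have hD := H.nd.hD
  obtain ⟨h4, hm⟩ := RootInv12.four_of_not_adj hD hxw.1 hb hxb hnc
  obtain ⟨-, -, h1, h2⟩ := RootBlocks41.sq_facts hD hxw.1 hb h4 hm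
  exact ⟨h2, RootInv.not_comm_line hD hxw.1 h1 (RootBlocks41.mem_oddPartners hD hxw)⟩

/-- A member of `Rad b` outside the class of `b` is a product partner of all of that class. -/
theorem line_of_Rad {b c : G} (hb : b ∈ D) (hc : c ∈ Rad D b)
    (hne : c ∉ Cfsg.sameCommutingClass D b) {v : G} (hv : v ∈ Cfsg.sameCommutingClass D b) :
    c ∈ Cfsg.productPartners D v := by
  have hD := H.nd.hD
  have hcD := W_mem hc.1
  obtain ⟨x, hxc, hxb, hnc⟩ := exists_adj H hb hc.1 hne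
  have hxx := RootInvolutions.mul_self hD hxc.1
  have hxv : ∀ e ∈ Cfsg.sameCommutingClass D b, ¬ Cfsg.OddAdj D x e ∧ ¬ Commute x e := fun e he =>
    ⟨not_adj_class H hb he hxb, fun hcm => hnc (by
      have : x ∈ Cfsg.commutingMembers D e := ⟨hxc.1, hcm.eq⟩
      rw [← he.2] at this
      exact this.2)⟩
  have hgv : ∀ e ∈ Cfsg.sameCommutingClass D b,
      (x * e) ^ 2 ∈ W D b ∧ ¬ Commute ((x * e) ^ 2) c := fun e he => by
    obtain ⟨h1, h2⟩ := side H he.1 hxc (hxv e he).1 (hxv e he).2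
    refine ⟨?_, h2⟩
    rw [← W_congr he.2]
    exact X_subset_W H he.1 h1
  have hψ : ∀ e ∈ Cfsg.sameCommutingClass D b,
      ((x * e) ^ 2 * c) ^ 2 ∈ Cfsg.sameCommutingClass D b ∧
        c ∈ Cfsg.productPartners D (((x * e) ^ 2 * c) ^ 2) := fun e he => by
    obtain ⟨hgW, hgc⟩ := hgv e he
    have hgD := W_mem hgW
    obtain ⟨h4, hm⟩ := RootInv12.four_of_not_adj hD hgD hcD (W_nadj hgW (mem_W.mp hc.1).1) hgc
    refine ⟨mem_class_of_sub H hb ?_ hm, RootBlocks41.line_symm hD hcD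
      (RootBlocks41.sq_facts hD hgD hcD h4 hm).2.2.2⟩
    rw [sq_swap H hcD hgD]
    exact inv_mem (hc.2 _ hgW)
  let ψ : Cfsg.sameCommutingClass D b → Cfsg.sameCommutingClass D b := fun e =>
    ⟨((x * e.1) ^ 2 * c) ^ 2, (hψ e.1 e.2).1⟩
  have hinj : Function.Injective ψ := by
    rintro ⟨v₁, h₁⟩ ⟨v₂, h₂⟩ e
    by_contra hne'
    replace hne' : v₁ ≠ v₂ := fun e' => hne' (Subtype.ext e')
    have e' : ((x * v₁) ^ 2 * c) ^ 2 = ((x * v₂) ^ 2 * c) ^ 2 := congrArg Subtype.val e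
    have h12 := class_mul H hb h₁ h₂ hne'
    refine (hgv _ h12).2 ?_
    obtain ⟨hW₁, -⟩ := hgv _ h₁
    obtain ⟨hW₂, -⟩ := hgv _ h₂
    have q1 := RootInvolutions.mul_self hD h₁.1
    have q2 := RootInvolutions.mul_self hD h₂.1
    have hv12 : Commute v₁ v₂ := class_comm h₂ (mem_W.mp (class_subset_W H h₁)).1
    have hg2v : Commute ((x * v₂) ^ 2) v₁ := class_comm h₁ (mem_W.mp hW₂).1
    have hmul : (x * (v₁ * v₂)) ^ 2 = (x * v₁) ^ 2 * (x * v₂) ^ 2 := by
      calc (x * (v₁ * v₂)) ^ 2 = x * v₁ * (x * x) * (v₂ * x) * (v₁ * v₂) := by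
            rw [hxx, mul_one, sq]; simp only [mul_assoc]
        _ = x * v₁ * x * (x * v₂ * x * (v₂ * v₁)) := by
            rw [hv12.eq]; simp only [mul_assoc]
        _ = x * v₁ * x * ((x * v₂) ^ 2 * v₁) := by
            rw [sq]; simp only [mul_assoc]
        _ = x * v₁ * x * (v₁ * (x * v₂) ^ 2) := by rw [hg2v.eq]
        _ = (x * v₁) ^ 2 * (x * v₂) ^ 2 := by rw [sq (x * v₁)]; simp only [mul_assoc]
    set g₁ := (x * v₁) ^ 2
    set g₂ := (x * v₂) ^ 2
    have hg2 := RootInvolutions.mul_self hD (W_mem hW₂)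
    have hg1 := RootInvolutions.mul_self hD (W_mem hW₁)
    have hg12 : g₂ * g₁ = g₁ * g₂ := by
      have h := RootInvolutions.mul_self hD (W_mem (hgv _ h12).1)
      rw [hmul] at h
      calc g₂ * g₁ = g₂ * g₁ * (g₁ * g₂ * (g₁ * g₂)) := by rw [h, mul_one]
        _ = g₂ * (g₁ * g₁) * g₂ * (g₁ * g₂) := by simp only [mul_assoc]
        _ = g₁ * g₂ := by rw [hg1, mul_one, hg2, one_mul]
    rw [hmul]
    have h3 : g₁ * c * g₁ = g₂ * c * g₂ := by
      refine mul_right_cancel (b := c) ?_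
      rw [sq, sq] at e'
      simpa only [mul_assoc] using e'
    show g₁ * g₂ * c = c * (g₁ * g₂)
    calc g₁ * g₂ * c = g₂ * (g₁ * c * g₁) * g₁ := by
          rw [← hg12]; simp only [mul_assoc]; rw [hg1, mul_one]
      _ = g₂ * g₂ * c * (g₂ * g₁) := by rw [h3]; simp only [mul_assoc]
      _ = c * (g₁ * g₂) := by rw [hg2, one_mul, hg12]
  obtain ⟨⟨e, he⟩, heq⟩ := Finite.injective_iff_surjective.mp hinj ⟨v, hv⟩
  have : ((x * e) ^ 2 * c) ^ 2 = v := congrArg Subtype.val heq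
  exact this ▸ (hψ e he).2

end Cfsg.Agent.Lib.RootStructure22
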