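import Cfsg.Agent.Lib.RootStructure22.Shift
import Cfsg.Agent.Lib.RootStructure22.Lines
import Cfsg.Agent.Lib.RootBlocks41.Reach

/-!
# The root structure theorem
-/

set_option autoImplicit false
set_option linter.unusedSectionVars false

namespace Cfsg.Agent.Lib.RootStructure22

open Cfsg.Agent.Lib.Elem70
open scoped commutatorElement

universe u

variable {G : Type u} [Group G] [Finite G] {D : Set G} (H : Hyp D)
include H

theorem closure_W {b : G} (hb : b ∈ D) :
    IsPGroup 2 ↥(Subgroup.closure (W D b)) ∧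
      ∀ y ∈ D, y ∈ Subgroup.closure (W D b) → y ∈ W D b := by
  have hD := H.nd.hD
  set S := Cfsg.commutingMembers D b with hS
  set C := Subgroup.closure S with hC
  have hSC : S ⊆ C := Subgroup.subset_closure
  have hCb : ∀ g ∈ C, Commute g b := fun g hg => by
    have hle : C ≤ Subgroup.centralizer {b} := by
      rw [hC, Subgroup.closure_le]
      exact fun y hy => Subgroup.mem_centralizer_singleton_iff.mpr hy.2
    exact Subgroup.mem_centralizer_singleton_iff.mp (hle hg)
  let D' : Set ↥C := {t | (t : G) ∈ S}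
  have hD' : Cfsg.IsRootInvolutionSet D' := by
    refine ⟨fun t ht => by rw [← Subgroup.orderOf_coe]; exact hD.orderOf_eq _ ht.1,
      Subgroup.closure_closure_coe_preimage, fun t ht g => ⟨hD.conj_mem _ ht.1 _, ?_⟩, ?_⟩
    · show (g : G) * (t : G) * (g : G)⁻¹ * b = b * ((g : G) * (t : G) * (g : G)⁻¹)
      exact (((hCb _ g.2).mul_left (show Commute (t : G) b from ht.2)).mul_left
        (hCb _ g.2).inv_left).eq
    · intro p hp q hq
      rcases hD.pair _ hp.1 _ hq.1 with h | h | ⟨h, h'⟩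
      · exact Or.inl (Subtype.ext h)
      · exact Or.inr (Or.inl (by rwa [← Subgroup.orderOf_coe]))
      · refine Or.inr (Or.inr ⟨by rwa [← Subgroup.orderOf_coe], h', ?_⟩)
        exact (((show Commute (p : G) b from hp.2).mul_left
          (show Commute (q : G) b from hq.2)).pow_left 2).eq
  have hW : ∀ w (hw : w ∈ W D b),
      Cfsg.IsIsolatedElem (Cfsg.OddAdj D') D' ⟨w, hSC (mem_W.mp hw).1⟩ := by
    intro w hw
    rw [RootInvolutions.isolated_iff hD']
    refine ⟨(mem_W.mp hw).1, fun y ⟨_, hy, hne, ho⟩ => W_nadj hw (y := (y : G)) hy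
      ⟨W_mem hw, hy.1, fun e => hne (Subtype.ext e), ?_⟩⟩
    rwa [← Subgroup.orderOf_coe] at ho
  have hle : Subgroup.closure (W D b) ≤ (Cfsg.pCore 2 ↥C).map C.subtype := by
    rw [Subgroup.closure_le]
    exact fun w hw => ⟨⟨w, hSC (mem_W.mp hw).1⟩, RootInvolutions.isolated_mem_pCore hD' (hW w hw), rfl⟩
  refine ⟨((Cfsg.Agent.Lib.PSolvable.isPGroup_pCore (p := 2) (G := ↥C)).map C.subtype).to_le hle,
    fun y hy hyN => ?_⟩
  obtain ⟨y', hy', rfl⟩ := hle hyN
  have hyS : (C.subtype y') ∈ S := ⟨hy, (hCb _ y'.2).eq⟩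
  have hiso := RootInvolutions.isolated_of_mem_normal hD'
    (Cfsg.Agent.Lib.PSolvable.isPGroup_pCore (p := 2)) (show y' ∈ D' from hyS) hy'
  rw [RootInvolutions.isolated_iff hD'] at hiso
  refine mem_W.mpr ⟨hyS, fun z hz => ?_⟩
  have key : ¬ Cfsg.OddAdj D (C.subtype y') z := fun ⟨_, _, hne, ho⟩ =>
    hiso.2 ⟨z, hSC hz⟩ ⟨hyS, hz, fun e => hne (congrArg Subtype.val e),
      by rw [← Subgroup.orderOf_coe]; exact ho⟩
  exact ⟨key, fun h => key (RootInvolutions.adj_symm hD h)⟩

/-- Some member outside `Rad b` has all non-central commutators with `W b` in `Rad b`. -/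
theorem exists_top {b : G} (hb : b ∈ D) {p₀ : G} (hp₀ : p₀ ∈ W D b) (hp₀' : p₀ ∉ Rad D b) :
    ∃ p ∈ W D b, p ∉ Rad D b ∧ ∀ q ∈ W D b,
      (p * q) ^ 2 ∉ Cfsg.sameCommutingSubgroup D b → (p * q) ^ 2 ∈ Rad D b := by
  have hD := H.nd.hD
  by_contra hno
  push Not at hno
  set N := Subgroup.closure (W D b) with hN
  haveI : Fact (Nat.Prime 2) := ⟨Nat.prime_two⟩
  haveI : Group.IsNilpotent ↥N := (closure_W H hb).1.isNilpotent
  obtain ⟨n, hn⟩ := (Subgroup.nilpotent_iff_lowerCentralSeries (G := ↥N)).mp inferInstance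
  have hWN : W D b ⊆ N := Subgroup.subset_closure
  have key : ∀ i, ∃ p, ∃ hp : p ∈ W D b, p ∉ Rad D b ∧
      (⟨p, hWN hp⟩ : ↥N) ∈ Subgroup.lowerCentralSeries (⊤ : Subgroup ↥N) i := by
    intro i
    induction i with
    | zero => exact ⟨p₀, hp₀, hp₀', by simp⟩
    | succ i ih =>
      obtain ⟨p, hp, hpR, hpi⟩ := ih
      obtain ⟨q, hq, hnE, hnR⟩ := hno p hp hpR
      have hne : (p * q) ^ 2 ≠ 1 := fun e => hnE (e ▸ one_mem _)
      obtain ⟨hW, -, -⟩ := mem_of_sq H hp (mem_W.mp hq).1 hne
      refine ⟨_, hW, hnR, ?_⟩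
      have he : (⟨(p * q) ^ 2, hWN hW⟩ : ↥N) = ⁅(⟨p, hWN hp⟩ : ↥N), (⟨q, hWN hq⟩ : ↥N)⁆ := by
        apply Subtype.ext
        show (p * q) ^ 2 = p * q * p⁻¹ * q⁻¹
        rw [RootInvolutions.inv_self hD (W_mem hp), RootInvolutions.inv_self hD (W_mem hq), sq]
        simp only [mul_assoc]
      rw [he, Subgroup.lowerCentralSeries_succ]
      exact Subgroup.commutator_mem_commutator hpi (Subgroup.mem_top _)
  obtain ⟨p, hp, -, hpn⟩ := key n
  rw [hn, Subgroup.mem_bot] at hpn
  exact RootInvolutions.ne_one hD (W_mem hp) (congrArg Subtype.val hpn)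

/-- All commutators of members of `W b` lie in `E(b)`. -/
theorem W_subset_Rad {b : G} (hb : b ∈ D) {p₀ : G} (hp₀ : p₀ ∈ W D b) : p₀ ∈ Rad D b := by
  have hD := H.nd.hD
  by_contra hp₀'
  obtain ⟨p, hp, hpR, htop⟩ := exists_top H hb hp₀ hp₀'
  -- the common contradiction
  have final : ∀ e ∈ Cfsg.sameCommutingClass D b, ∀ u q : G, u ∈ Cfsg.productPartners D e →
      u ∉ Rad D b → q ∈ W D b → (u * q) ^ 2 ∈ Rad D b →
      (u * q) ^ 2 ∉ Cfsg.sameCommutingSubgroup D b → False := by
    intro e he u q hu huR hq hc hcE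
    have huW : u ∈ W D b := by rw [← W_congr he.2]; exact X_subset_W H he.1 hu
    have hne : (u * q) ^ 2 ≠ 1 := fun h => hcE (h ▸ one_mem _)
    obtain ⟨-, h4, hm⟩ := mem_of_sq H huW (mem_W.mp hq).1 hne
    obtain ⟨-, -, hcu, -⟩ := RootBlocks41.sq_facts hD (W_mem huW) (W_mem hq) h4 hm
    set c := (u * q) ^ 2 with hcdef
    have hcE' : c ∉ Cfsg.sameCommutingClass D b := fun h => hcE (Subgroup.subset_closure h)
    have hcX := line_of_Rad H hb hc hcE' he
    have hqe : Commute q e := class_comm he (mem_W.mp hq).1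
    -- the conjugate of `u` by `q`
    have huc : u * c = q * u * q⁻¹ := by
      rw [RootInvolutions.inv_self hD (W_mem hq), RootInv.four_conj hD (W_mem huW) (W_mem hq)]
    have hq' : q * e * q⁻¹ = e := by rw [hqe.eq, mul_inv_cancel_right]
    have hu' : u * c ∈ Cfsg.productPartners D e := by
      rw [huc]
      refine ⟨⟨hD.conj_mem u hu.1.1 q, ?_, fun h => hu.1.2.2 (RootInv12.conj_injective q
        (h.trans hq'.symm))⟩, ?_⟩
      · nth_rewrite 1 [← hq']
        nth_rewrite 2 [← hq']
        exact (RootInv12.commute_conj (show Commute u e from hu.1.2.1) q).eq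
      · nth_rewrite 1 [← hq']
        rw [← RootInv12.conj_mul']
        exact hD.conj_mem _ hu.2 q
    have hu'R : u * c ∉ Rad D b := fun h => by
      refine huR ?_
      have := conj_Rad H hb h q⁻¹
      rw [huc] at this
      have hqb : q⁻¹ * b * q⁻¹⁻¹ = b := by
        rw [((W_comm hq).inv_left).eq, mul_inv_cancel_right]
      rw [hqb] at this
      simpa [mul_assoc] using this
    have hcR : c ∈ Rad D e := by rw [Rad_congr he]; exact hc
    have hcne : c ∉ Cfsg.sameCommutingClass D e := by rw [class_congr he]; exact hcE'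
    obtain ⟨x, hxc, hxe, -⟩ := exists_adj H he.1 hcR.1 hcne
    rcases RootInvolutions.line_lemma hD hm (RootBlocks41.line_symm hD (W_mem huW) hcu) hxc with h | h
    · exact huR (by rw [← Rad_congr he]; exact shift H he.1 hcX hu hcR hxc h hxe)
    · exact hu'R (by rw [← Rad_congr he]; exact shift H he.1 hcX hu' hcR hxc h hxe)
  obtain ⟨q, hq, hqE⟩ : ∃ q ∈ W D b, (p * q) ^ 2 ∉ Cfsg.sameCommutingSubgroup D b := by
    by_contra h
    push Not at h
    exact hpR ⟨hp, h⟩
  have hpE : p ∉ Cfsg.sameCommutingClass D b := fun h => hpR (mem_Rad_of_class H h)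
  obtain ⟨x, hxp, hxb, hnc⟩ := exists_adj H hb hp hpE
  obtain ⟨hgX, hgp⟩ := side H hb hxp hxb hnc
  set g := (x * b) ^ 2 with hg
  have hgW := X_subset_W H hb hgX
  have hgD := W_mem hgW
  have hne : (p * g) ^ 2 ≠ 1 := fun e =>
    hgp ((RootInv.comm_iff_sq hD (W_mem hp) hgD).mpr e).symm
  obtain ⟨-, h4, hfD⟩ := mem_of_sq H hp (mem_W.mp hgW).1 hne
  obtain ⟨-, -, hfp, -⟩ := RootBlocks41.sq_facts hD (W_mem hp) hgD h4 hfD
  by_cases hf : (p * g) ^ 2 ∈ Cfsg.sameCommutingSubgroup D b
  · exact final _ (mem_class_of_sub H hb hf hfD) p q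
      (RootBlocks41.line_symm hD (W_mem hp) hfp) hpR hq (htop q hq hqE) hqE
  · have hgR : g ∉ Rad D b := fun h => hf (by
      rw [sq_swap H hgD (W_mem hp)]
      exact inv_mem (h.2 p hp))
    have e : (g * p) ^ 2 = (p * g) ^ 2 := RootInv.four_symm hD (W_mem hp) hgD h4
    exact final b (class_self hb) g p hgX hgR hp (e ▸ htop g hgW hf) (e ▸ hf)

theorem W_eq {b : G} (hb : b ∈ D) : W D b = Cfsg.productPartners D b ∪ {b} := by
  refine Set.Subset.antisymm (fun w hw => ?_) ?_
  · by_cases hwb : w = b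
    · exact Or.inr hwb
    · left
      by_cases hwE : w ∈ Cfsg.sameCommutingClass D b
      · exact ⟨⟨hwE.1, (W_comm hw).eq, hwb⟩, (class_mul H hb hwE (class_self hb) hwb).1⟩
      · exact line_of_Rad H hb (W_subset_Rad H hb hw) hwE (class_self hb)
  · rintro w (hw | hw)
    · exact X_subset_W H hb hw
    · rw [hw]; exact self_mem_W H hb

theorem commutator_le {b : G} (hb : b ∈ D) :
    ⁅Subgroup.closure (W D b), Subgroup.closure (W D b)⁆ ≤ Cfsg.sameCommutingSubgroup D b := by
  have hD := H.nd.hD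
  set E := Cfsg.sameCommutingSubgroup D b with hEdef
  set N := Subgroup.closure (W D b) with hN
  have hcen : ∀ e ∈ E, ∀ g ∈ N, Commute g e := by
    intro e he g hg
    rcases (mem_sub_iff H hb).mp he with h | h
    · have hle : N ≤ Subgroup.centralizer {e} := by
        rw [hN, Subgroup.closure_le]
        exact fun y hy => Subgroup.mem_centralizer_singleton_iff.mpr
          (class_comm h (mem_W.mp hy).1).eq
      exact Subgroup.mem_centralizer_singleton_iff.mp (hle hg)
    · rw [h]; exact Commute.one_right g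
  have hgen : ∀ a ∈ W D b, ∀ g ∈ N, ⁅a, g⁆ ∈ E := by
    intro a ha g hg
    induction hg using Subgroup.closure_induction'' with
    | mem y hy =>
      have := (W_subset_Rad H hb ha).2 y hy
      rw [commutatorElement_def, RootInvolutions.inv_self hD (W_mem ha),
        RootInvolutions.inv_self hD (W_mem hy)]
      rwa [sq, ← mul_assoc] at this
    | inv_mem y hy =>
      rw [RootInvolutions.inv_self hD (W_mem hy)]
      have := (W_subset_Rad H hb ha).2 y hy
      rw [commutatorElement_def, RootInvolutions.inv_self hD (W_mem ha),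
        RootInvolutions.inv_self hD (W_mem hy)]
      rwa [sq, ← mul_assoc] at this
    | one => rw [commutatorElement_one_right]; exact one_mem _
    | mul g h hgN hhN ihg ihh =>
      have e : ⁅a, g * h⁆ = ⁅a, g⁆ * (g * ⁅a, h⁆ * g⁻¹) := by
        simp only [commutatorElement_def]; group
      rw [e, (hcen _ ihh g hgN).eq, mul_inv_cancel_right]
      exact mul_mem ihg ihh
  rw [Subgroup.commutator_le]
  intro f hf g hg
  induction hf using Subgroup.closure_induction'' with
  | mem y hy => exact hgen y hy g hg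
  | inv_mem y hy => rw [RootInvolutions.inv_self hD (W_mem hy)]; exact hgen y hy g hg
  | one => rw [commutatorElement_one_left]; exact one_mem _
  | mul f h hfN hhN ihf ihh =>
    have e : ⁅f * h, g⁆ = f * ⁅h, g⁆ * f⁻¹ * ⁅f, g⁆ := by
      simp only [commutatorElement_def]; group
    rw [e, (hcen _ ihh f hfN).eq, mul_inv_cancel_right]
    exact mul_mem ihh ihf

theorem le_commutator {b : G} (hb : b ∈ D) :
    Cfsg.sameCommutingSubgroup D b ≤ ⁅Subgroup.closure (W D b), Subgroup.closure (W D b)⁆ := by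
  have hD := H.nd.hD
  obtain ⟨z, hz, u, hu, h4⟩ := RootBlocks41.four_in_partners hD H.nd.cl H.nd.four hb
  have hzW := X_subset_W H hb hz
  have huW := X_subset_W H hb hu
  have hzE : z ∉ Cfsg.sameCommutingClass D b := fun h =>
    RootInv.not_comm_of_four hD hz.1.1 hu.1.1 h4 (class_comm h (mem_W.mp huW).1).symm
  rw [Cfsg.sameCommutingSubgroup, Subgroup.closure_le]
  intro v hv
  have hv' := line_of_Rad H hb (W_subset_Rad H hb hzW) hzE hv
  -- `z` has an odd partner `x` with product of order four with `v`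
  have hzv : z ∈ W D v := by rw [W_congr hv.2]; exact hzW
  have hzvE : z ∉ Cfsg.sameCommutingClass D v := by rw [class_congr hv]; exact hzE
  obtain ⟨x, hxz, hxv, -⟩ := exists_adj H hv.1 hzv hzvE
  have hcfg : RootInv12.Orbit.Cfg D x z v := ⟨hD, hv.1, hv'.1.2.1.symm,
    by rw [← show z * v = v * z from hv'.1.2.1]; exact hv'.2, hxz, hxv⟩
  -- every candidate in the class of `b` is a step of another one
  let φ : {w : G // RootInv12.Cand D x z v w ∧ w ∈ Cfsg.sameCommutingClass D b} →
      {w : G // RootInv12.Cand D x z v w ∧ w ∈ Cfsg.sameCommutingClass D b} := fun w =>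
    ⟨RootInv12.step x z w.1, (RootInv12.cand_props hcfg w.2.1).2.2.2.2, by
      have := step_mem_class H hcfg w.2.1 (by rw [Rad_congr w.2.2]; exact W_subset_Rad H hb hzW)
      rwa [class_congr w.2.2] at this⟩
  have hinj : Function.Injective φ := fun w w' e =>
    Subtype.ext (RootInv12.step_injective hcfg w.2.1 w'.2.1 (congrArg Subtype.val e))
  obtain ⟨⟨w, hw, hwb⟩, e⟩ := Finite.injective_iff_surjective.mp hinj
    ⟨v, RootInv12.cand_self hcfg, hv⟩
  have e' : ((x * w) ^ 2 * z) ^ 2 = v := congrArg Subtype.val e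
  obtain ⟨hgD, -, -, -, -⟩ := RootInv12.cand_props hcfg hw
  have hgW : (x * w) ^ 2 ∈ W D b := by
    have hxw : ¬ Commute x w := fun hc => RootInvolutions.ne_one hD hw.mem
      (RootInv12.eq_one_of_common hD hxz (RootInvolutions.mul_self hD hw.mem) hc.symm hw.comm.symm
        hw.hm)
    obtain ⟨h4', -⟩ := RootInv12.four_of_not_adj hD hxz.1 hw.mem hw.nadj hxw
    rw [← W_congr hwb.2]
    exact X_subset_W H hw.mem (RootBlocks41.sq_facts hD hxz.1 hw.mem h4' hgD).2.2.2
  have e2 : v = ⁅(x * w) ^ 2, z⁆ := by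
    rw [← e', commutatorElement_def, RootInvolutions.inv_self hD hgD,
      RootInvolutions.inv_self hD hz.1.1, sq (((x * w) ^ 2) * z)]
    simp only [mul_assoc]
  rw [SetLike.mem_coe, e2]
  exact Subgroup.commutator_mem_commutator (Subgroup.subset_closure hgW) (Subgroup.subset_closure hzW)

/-- The root structure theorem. -/
theorem structure_thm {b : G} (hb : b ∈ D) :
    Subgroup.closure (W D b) = Subgroup.closure (Cfsg.productPartners D b ∪ {b}) ∧
    D ∩ (Subgroup.closure (Cfsg.productPartners D b ∪ {b}) : Set G) =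
      Cfsg.productPartners D b ∪ {b} ∧
    ⁅Subgroup.closure (Cfsg.productPartners D b ∪ {b}),
        Subgroup.closure (Cfsg.productPartners D b ∪ {b})⁆ = Cfsg.sameCommutingSubgroup D b ∧
    Cfsg.sameCommutingClass D b = {e | e ∈ D ∧
      e ∈ Subgroup.closure (Cfsg.productPartners D b ∪ {b}) ∧
      ∀ y ∈ Subgroup.closure (Cfsg.productPartners D b ∪ {b}), e * y = y * e} := by
  have hD := H.nd.hD
  rw [← W_eq H hb]
  refine ⟨rfl, Set.ext fun y => ⟨fun h => (closure_W H hb).2 y h.1 h.2,
    fun h => ⟨W_mem h, Subgroup.subset_closure h⟩⟩,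
    le_antisymm (commutator_le H hb) (le_commutator H hb), Set.ext fun e => ⟨fun he => ?_, ?_⟩⟩
  · refine ⟨he.1, Subgroup.subset_closure (class_subset_W H he), fun y hy => ?_⟩
    have hle : Subgroup.closure (W D b) ≤ Subgroup.centralizer {e} := by
      rw [Subgroup.closure_le]
      exact fun z hz => Subgroup.mem_centralizer_singleton_iff.mpr
        (class_comm he (mem_W.mp hz).1).eq
    exact (Subgroup.mem_centralizer_singleton_iff.mp (hle hy)).symm
  · rintro ⟨heD, heN, hcen⟩
    by_contra hne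
    have heW := (closure_W H hb).2 e heD heN
    obtain ⟨x, hxe, hxb, hnc⟩ := exists_adj H hb heW hne
    obtain ⟨hgX, hge⟩ := side H hb hxe hxb hnc
    exact hge (hcen _ (Subgroup.subset_closure (X_subset_W H hb hgX))).symm

end Cfsg.Agent.Lib.RootStructure22
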