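import Cfsg.Agent.Lib.RootStructure22.Basic
import Cfsg.Agent.Lib.RootInv12.Exact

/-!
# The reflection exchanging the axes of an orbit, and the cycle of steps
-/

set_option autoImplicit false
set_option linter.unusedSectionVars false

namespace Cfsg.Agent.Lib.RootStructure22

open Cfsg.Agent.Lib.Elem70
open Cfsg.Agent.Lib.RootInv12.Orbit

universe u

variable {G : Type u} [Group G] {D : Set G}

/-- The reflection exchanging `x` and `c` maps `(x b) ^ 2` to a step of `b`. -/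
theorem exists_swap {x c b : G} (h : Cfg D x c b) :
    ∃ y s : G, Cfg D y c b ∧ s * x * s⁻¹ = c ∧ s * c * s⁻¹ = x ∧
      s * (x * b) ^ 2 * s⁻¹ = RootInv12.step y c b := by
  obtain ⟨m, hm⟩ := h.adj.2.2.2
  have hcc : c * c = 1 := c_self h
  have hci : c⁻¹ = c := RootInvolutions.inv_self h.hD h.adj.2.1
  have hper : ∀ k : ℤ, (x * c) ^ (k + ((2 * m + 1 : ℕ) : ℤ)) = (x * c) ^ k := fun k => by
    rw [zpow_add, zpow_natCast, ← hm, pow_orderOf_eq_one, mul_one]
  have hs_cj : ∀ (k : ℤ) (v : G),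
      (x * c) ^ k * c * v * ((x * c) ^ k * c)⁻¹ = cj x c k (c * v * c⁻¹) := fun k v => by
    rw [cj, RootInv12.conj_conj]
  have hrot : ∀ k : ℤ, cj x c k c = (x * c) ^ (2 * k) * c := fun k => by
    have e := conj_rot_zpow h (-k)
    rw [neg_neg, mul_inv_eq_iff_eq_mul, zpow_neg] at e
    rw [cj, mul_assoc, e, ← mul_assoc, ← zpow_add, two_mul]
  have hsym : ∀ k : ℤ, (x * c) ^ k * c * c * ((x * c) ^ k * c)⁻¹ = (x * c) ^ (2 * k) * c := fun k => by
    rw [hs_cj, show c * c * c⁻¹ = c by group, hrot]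
  have hx : (x * c) ^ (1 : ℤ) * c = x := by rw [zpow_one, mul_assoc, hcc, mul_one]
  set s := (x * c) ^ ((m : ℤ) + 1) * c with hs
  have hsc : s * c * s⁻¹ = x := by
    rw [hs, hsym, show 2 * ((m : ℤ) + 1) = 1 + ((2 * m + 1 : ℕ) : ℤ) by push_cast; ring, hper, hx]
  have hsD : s ∈ D := refl_mem h _
  have hsx : s * x * s⁻¹ = c := by
    nth_rewrite 1 [← hsc]
    rw [RootInv12.conj_conj, RootInvolutions.mul_self h.hD hsD]
    simp
  set y := (x * c) ^ (m : ℤ) * c with hy
  have hyc : y * c = (x * c) ^ (m : ℤ) := by rw [hy, mul_assoc, hcc, mul_one]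
  have hyne : y ≠ c := fun e => by
    have h1 : (x * c) ^ (m : ℤ) = 1 := by rw [← hyc, e, hcc]
    rw [zpow_natCast] at h1
    have hd := orderOf_dvd_of_pow_eq_one h1
    rw [hm] at hd
    rcases Nat.eq_zero_or_pos m with rfl | hpos
    · apply h.adj.2.2.1
      have h2 : x * c = 1 := orderOf_eq_one_iff.mp hm
      rw [eq_inv_of_mul_eq_one_left h2, hci]
    · have := Nat.le_of_dvd hpos hd
      omega
  have hadj : Cfsg.OddAdj D y c := by
    refine ⟨refl_mem h _, h.adj.2.1, hyne, ?_⟩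
    rw [hyc, zpow_natCast]
    exact Odd.of_dvd_nat ⟨m, hm⟩ (orderOf_pow_dvd m)
  refine ⟨y, s, ⟨h.hD, h.hu, h.comm, h.hm, hadj, nadj_refl h m⟩, hsx, hsc, ?_⟩
  have e1 : (x * b) ^ 2 = cj x c 1 b * b := by
    have := refl_sq h 1
    rwa [hx] at this
  have e2 : s * (cj x c 1 b * b) * s⁻¹ = cj x c (m : ℤ) b * cj x c (-(m : ℤ)) b := by
    rw [RootInv12.conj_mul', hs, hs_cj, hs_cj, c_cj h, cj_cj,
      show c * b * c⁻¹ = b by rw [← h.comm.eq, mul_inv_cancel_right],
      show (m : ℤ) + 1 + -1 = (m : ℤ) by ring]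
    congr 1
    rw [cj, cj, show (m : ℤ) + 1 = -(m : ℤ) + ((2 * m + 1 : ℕ) : ℤ) by push_cast; ring, hper]
  rw [e1, e2]
  have e3 : RootInv12.step y c b = (cj x c (m : ℤ) b * b * c) ^ 2 := by
    rw [RootInv12.step, refl_sq h]
  rw [e3, sq]
  have hcb : c * b * c = b := by rw [← h.comm.eq, mul_assoc, hcc, mul_one]
  have hcj : c * cj x c (m : ℤ) b * c = cj x c (-(m : ℤ)) b := by
    have := c_cj h (m : ℤ)
    rwa [hci] at this
  have hc2 : b * c = c * b := h.comm.eq
  symm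
  calc cj x c (m : ℤ) b * b * c * (cj x c (m : ℤ) b * b * c)
      = cj x c (m : ℤ) b * b * (c * cj x c (m : ℤ) b * c) * b := by
        rw [show cj x c (m : ℤ) b * b * c * (cj x c (m : ℤ) b * b * c) =
          cj x c (m : ℤ) b * b * (c * cj x c (m : ℤ) b * (b * c)) by simp only [mul_assoc], hc2]
        simp only [mul_assoc]
    _ = cj x c (m : ℤ) b * (b * b) * cj x c (-(m : ℤ)) b := by
        rw [hcj, mul_assoc (cj x c (m : ℤ) b * b) (cj x c (-(m : ℤ)) b) b,
          ← (by simpa [cj_zero] using comm_int h 0 (-(m : ℤ)) : Commute b (cj x c (-(m : ℤ)) b)).eq]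
        simp only [mul_assoc]
    _ = cj x c (m : ℤ) b * cj x c (-(m : ℤ)) b := by
        rw [RootInvolutions.mul_self h.hD h.hu, mul_one]

variable [Finite G] (H : Hyp D)
include H

/-- One step never leaves `E(v)` when the centre of the orbit is in `Rad v`. -/
theorem step_mem_class {x c u v : G} (h : Cfg D x c u) (hv : RootInv12.Cand D x c u v)
    (hc : c ∈ Rad D v) : RootInv12.step x c v ∈ Cfsg.sameCommutingClass D v := by
  have hD := h.hD
  obtain ⟨hg, -, -, -, hnew⟩ := RootInv12.cand_props h hv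
  refine mem_class_of_sub H hv.mem ?_ hnew.mem
  have hxv : ¬ Commute x v := fun hc' => RootInvolutions.ne_one hD hv.mem
    (RootInv12.eq_one_of_common hD h.adj (RootInvolutions.mul_self hD hv.mem) hc'.symm hv.comm.symm
      hv.hm)
  obtain ⟨h4, -⟩ := RootInv12.four_of_not_adj hD h.adj.1 hv.mem hv.nadj hxv
  obtain ⟨-, -, -, hX⟩ := RootBlocks41.sq_facts hD h.adj.1 hv.mem h4 hg
  have hW := X_subset_W H hv.mem hX
  show ((x * v) ^ 2 * c) ^ 2 ∈ _
  rw [sq_swap H h.adj.2.1 hg]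
  exact inv_mem (hc.2 _ hW)

/-- The shift: if `x`, not adjacent to `b`, is adjacent to `c ∈ Rad b` and to a product partner `p`
of `b` commuting with `c`, then `p ∈ Rad b`. -/
theorem shift {b x c p : G} (hb : b ∈ D) (hcb : c ∈ Cfsg.productPartners D b)
    (hpb : p ∈ Cfsg.productPartners D b) (hcR : c ∈ Rad D b) (hxc : Cfsg.OddAdj D x c)
    (hxp : Cfsg.OddAdj D x p) (hxb : ¬ Cfsg.OddAdj D x b) : p ∈ Rad D b := by
  have hD := H.nd.hD
  have cfgOf : ∀ {q}, q ∈ Cfsg.productPartners D b → Cfsg.OddAdj D x q → Cfg D x q b := fun {q} hq hxq =>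
    ⟨hD, hb, hq.1.2.1.symm, by rw [← show q * b = b * q from hq.1.2.1]; exact hq.2, hxq, hxb⟩
  obtain ⟨yc, sc, hyc, hsc1, hsc2, hsce⟩ := exists_swap (cfgOf hcb hxc)
  obtain ⟨yp, sp, hyp, hsp1, hsp2, hspe⟩ := exists_swap (cfgOf hpb hxp)
  -- the element carrying `p` to `c` and the step of `b` at `p` to that at `c`
  set h₀ := RootInv12.step yp p b with hh₀
  set e₀ := RootInv12.step yc c b with he₀
  have he : e₀ ∈ Cfsg.sameCommutingClass D b :=
    step_mem_class H hyc (RootInv12.cand_self hyc) hcR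
  set g := sc * sp⁻¹ with hg
  have hge : g * h₀ * g⁻¹ = e₀ := by rw [← hspe, ← hsce, hg]; group
  have hgp : g * p * g⁻¹ = c := by rw [← hsp1, ← hsc1, hg]; group
  have hgh : g⁻¹ * e₀ * g⁻¹⁻¹ = h₀ := by rw [← hge]; group
  have hgc : g⁻¹ * c * g⁻¹⁻¹ = p := by rw [← hgp]; group
  have hph : p ∈ Rad D h₀ := by
    have := conj_Rad H he.1 (c := c) (by rw [Rad_congr he]; exact hcR) g⁻¹
    rwa [hgh, hgc] at this
  -- the steps permute the candidates equivalent to `h₀`
  have hcand := (RootInv12.cand_props hyp (RootInv12.cand_self hyp)).2.2.2.2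
  have hcand' : RootInv12.Cand D yp p b h₀ := hcand
  let φ : {v : G // RootInv12.Cand D yp p b v ∧ v ∈ Cfsg.sameCommutingClass D h₀} →
      {v : G // RootInv12.Cand D yp p b v ∧ v ∈ Cfsg.sameCommutingClass D h₀} := fun v =>
    ⟨RootInv12.step yp p v.1, (RootInv12.cand_props hyp v.2.1).2.2.2.2, by
      have := step_mem_class H hyp v.2.1 (by rw [Rad_congr v.2.2]; exact hph)
      rwa [class_congr v.2.2] at this⟩
  have hinj : Function.Injective φ := fun v v' e =>
    Subtype.ext (RootInv12.step_injective hyp v.2.1 v'.2.1 (congrArg Subtype.val e))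
  obtain ⟨⟨v, hv, hvh⟩, e⟩ := Finite.injective_iff_surjective.mp hinj
    ⟨h₀, hcand', class_self hcand'.mem⟩
  have hvb : v = b := RootInv12.step_injective hyp hv (RootInv12.cand_self hyp)
    (congrArg Subtype.val e)
  rw [hvb] at hvh
  rwa [Rad_congr hvh]

end Cfsg.Agent.Lib.RootStructure22
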